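import Mathlib

/-!
Hilbert series of weighted homogeneous complete intersections.
-/

set_option autoImplicit false
universe u v

open MvPolynomial

attribute [local instance] MvPolynomial.weightedGradedAlgebra

namespace Groth.Agent.GrCI54

variable {F : Type u} [Field F] {σ : Type v} (δ : σ → ℕ)

/-- the degree `u` piece of the quotient by `J` -/
noncomputable def piece (J : Ideal (MvPolynomial σ F)) (u : ℕ) :
    Submodule F (MvPolynomial σ F ⧸ J) :=
  (weightedHomogeneousSubmodule F δ u).map (Ideal.Quotient.mkₐ F J).toLinearMap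

/-- the Hilbert series of the quotient by `J` -/
noncomputable def hs (J : Ideal (MvPolynomial σ F)) : PowerSeries ℤ :=
  PowerSeries.mk fun u => (Module.finrank F (piece δ J u) : ℤ)

theorem mem_piece {J : Ideal (MvPolynomial σ F)} {u : ℕ} {y : MvPolynomial σ F ⧸ J} :
    y ∈ piece δ J u ↔ ∃ f, IsWeightedHomogeneous δ f u ∧ Ideal.Quotient.mk J f = y := Iff.rfl

theorem finite_piece [Finite σ] (hδ : ∀ i, 0 < δ i) (J : Ideal (MvPolynomial σ F)) (u : ℕ) :
    Module.Finite F (piece δ J u) :=
  Module.Finite.iff_fg.2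
    ((weightedHomogeneousSubmodule_fg F δ (fun i => (hδ i).ne') u).map _)

theorem component_mul {h g : MvPolynomial σ F} {e : ℕ} (hg : IsWeightedHomogeneous δ g e) (v : ℕ) :
    weightedHomogeneousComponent δ v (h * g) =
      if e ≤ v then weightedHomogeneousComponent δ (v - e) h * g else 0 := by
  have := DirectSum.coe_decompose_mul_of_right_mem
    (weightedHomogeneousSubmodule F δ) v (a := h) (b := g) (i := e) hg
  exact (weightedDecomposition.decompose'_apply F δ (h * g) v).symm.trans (this.trans (by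
    congr 1
    exact congrArg (· * g) (weightedDecomposition.decompose'_apply F δ h (v - e))))

theorem isHomogeneous_span {ι : Type*} (g : ι → MvPolynomial σ F) (ε : ι → ℕ)
    (hg : ∀ i, IsWeightedHomogeneous δ (g i) (ε i)) :
    (Ideal.span (Set.range g)).IsHomogeneous (weightedHomogeneousSubmodule F δ) :=
  Ideal.homogeneous_span _ _ (by rintro _ ⟨i, rfl⟩; exact ⟨ε i, hg i⟩)

theorem component_mem {J : Ideal (MvPolynomial σ F)}
    (hJ : J.IsHomogeneous (weightedHomogeneousSubmodule F δ)) {f : MvPolynomial σ F} (hf : f ∈ J)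
    (v : ℕ) : weightedHomogeneousComponent δ v f ∈ J :=
  MvPolynomial.weightedHomogeneousComponent_mem_of_mem F δ hJ hf v

/-- one step of a regular sequence -/
theorem finrank_piece_step [Finite σ] (hδ : ∀ i, 0 < δ i) {J : Ideal (MvPolynomial σ F)}
    (hJ : J.IsHomogeneous (weightedHomogeneousSubmodule F δ))
    {g : MvPolynomial σ F} {e : ℕ} (hg : IsWeightedHomogeneous δ g e)
    (hreg : ∀ x, x * g ∈ J → x ∈ J) (v : ℕ) :
    (Module.finrank F (piece δ (J ⊔ Ideal.span {g}) v) : ℤ) =
      Module.finrank F (piece δ J v) -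
        (if e ≤ v then (Module.finrank F (piece δ J (v - e)) : ℤ) else 0) := by
  set J' := J ⊔ Ideal.span {g}
  have := finite_piece δ hδ J v
  let π : (MvPolynomial σ F ⧸ J) →ₗ[F] (MvPolynomial σ F ⧸ J') :=
    (Ideal.Quotient.factorₐ F (le_sup_left : J ≤ J')).toLinearMap
  have hπ : ∀ f, π (Ideal.Quotient.mk J f) = Ideal.Quotient.mk J' f := fun f => rfl
  let D : piece δ J v →ₗ[F] (MvPolynomial σ F ⧸ J') := π.domRestrict _
  have hrange : LinearMap.range D = piece δ J' v := by
    ext y
    constructor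
    · rintro ⟨⟨z, hz⟩, rfl⟩
      obtain ⟨f, hf, rfl⟩ := (mem_piece δ).1 hz
      exact (mem_piece δ).2 ⟨f, hf, rfl⟩
    · intro hy
      obtain ⟨f, hf, rfl⟩ := (mem_piece δ).1 hy
      exact ⟨⟨_, (mem_piece δ).2 ⟨f, hf, rfl⟩⟩, rfl⟩
  let gbar := Ideal.Quotient.mk J g
  let mul : (MvPolynomial σ F ⧸ J) →ₗ[F] (MvPolynomial σ F ⧸ J) := LinearMap.mulRight F gbar
  have hmul : Function.Injective mul := by
    rw [injective_iff_map_eq_zero]
    intro y hy
    obtain ⟨x, rfl⟩ := Ideal.Quotient.mk_surjective y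
    change Ideal.Quotient.mk J x * Ideal.Quotient.mk J g = 0 at hy
    rw [← map_mul, Ideal.Quotient.eq_zero_iff_mem] at hy
    exact Ideal.Quotient.eq_zero_iff_mem.2 (hreg x hy)
  have hkermem : ∀ f, IsWeightedHomogeneous δ f v → f ∈ J' →
      if e ≤ v then Ideal.Quotient.mk J f ∈ (piece δ J (v - e)).map mul else f ∈ J := by
    intro f hf hfJ
    obtain ⟨j, hj, z, hz, rfl⟩ := Submodule.mem_sup.1 hfJ
    obtain ⟨h, rfl⟩ := Ideal.mem_span_singleton'.1 hz
    have hc := hf.weightedHomogeneousComponent_same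
    rw [map_add, component_mul δ hg] at hc
    split_ifs with hle
    · rw [if_pos hle] at hc
      refine ⟨Ideal.Quotient.mk J (weightedHomogeneousComponent δ (v - e) h),
        (mem_piece δ).2 ⟨_, weightedHomogeneousComponent_isWeightedHomogeneous _ _, rfl⟩, ?_⟩
      change Ideal.Quotient.mk J _ * Ideal.Quotient.mk J g = _
      rw [← map_mul, Ideal.Quotient.eq]
      have : weightedHomogeneousComponent δ (v - e) h * g - (j + h * g) =
          - weightedHomogeneousComponent δ v j := by rw [← hc]; abel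
      rw [this]
      exact J.neg_mem (component_mem δ hJ hj v)
    · rw [if_neg hle, add_zero] at hc
      rw [← hc]
      exact component_mem δ hJ hj v
  have hsum := LinearMap.finrank_range_add_finrank_ker D
  rw [hrange] at hsum
  have hker : (Module.finrank F (LinearMap.ker D) : ℤ) =
      if e ≤ v then (Module.finrank F (piece δ J (v - e)) : ℤ) else 0 := by
    rw [← Submodule.finrank_map_subtype_eq (piece δ J v) (LinearMap.ker D)]
    split_ifs with hle
    · rw [(Submodule.equivMapOfInjective mul hmul (piece δ J (v - e))).finrank_eq]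
      refine congrArg Nat.cast (congrArg (fun W : Submodule F _ => Module.finrank F W) ?_)
      ext y
      constructor
      · rintro ⟨⟨z, hz⟩, hzD, rfl⟩
        obtain ⟨f, hf, rfl⟩ := (mem_piece δ).1 hz
        have hfJ : f ∈ J' := Ideal.Quotient.eq_zero_iff_mem.1 hzD
        simpa [hle] using hkermem f hf hfJ
      · rintro ⟨z, hz, rfl⟩
        obtain ⟨h, hh, rfl⟩ := (mem_piece δ).1 hz
        have hmem : IsWeightedHomogeneous δ (h * g) v := by
          have := hh.mul hg
          rwa [Nat.sub_add_cancel hle] at this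
        refine ⟨⟨_, (mem_piece δ).2 ⟨h * g, hmem, rfl⟩⟩, ?_, map_mul (Ideal.Quotient.mk J) h g⟩
        exact Ideal.Quotient.eq_zero_iff_mem.2
          (Ideal.mem_sup_right (Ideal.mem_span_singleton'.2 ⟨h, rfl⟩))
    · rw [Int.natCast_eq_zero, Submodule.finrank_eq_zero, eq_bot_iff]
      rintro _ ⟨⟨z, hz⟩, hzD, rfl⟩
      obtain ⟨f, hf, rfl⟩ := (mem_piece δ).1 hz
      have hfJ : f ∈ J' := Ideal.Quotient.eq_zero_iff_mem.1 hzD
      have := hkermem f hf hfJ
      rw [if_neg hle] at this
      exact Ideal.Quotient.eq_zero_iff_mem.2 this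
  omega

theorem hs_step [Finite σ] (hδ : ∀ i, 0 < δ i) {J : Ideal (MvPolynomial σ F)}
    (hJ : J.IsHomogeneous (weightedHomogeneousSubmodule F δ))
    {g : MvPolynomial σ F} {e : ℕ} (hg : IsWeightedHomogeneous δ g e)
    (hreg : ∀ x, x * g ∈ J → x ∈ J) :
    hs δ (J ⊔ Ideal.span {g}) = hs δ J * (1 - PowerSeries.X ^ e) := by
  ext v
  rw [mul_sub, mul_one, map_sub, PowerSeries.coeff_mul_X_pow']
  simp only [hs, PowerSeries.coeff_mk]
  exact finrank_piece_step δ hδ hJ hg hreg v

theorem hs_regular [Finite σ] (hδ : ∀ i, 0 < δ i) : ∀ {n : ℕ} (g : Fin n → MvPolynomial σ F)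
    (ε : Fin n → ℕ), (∀ i, IsWeightedHomogeneous δ (g i) (ε i)) →
    (∀ (i : Fin n) x, x * g i ∈ Ideal.span (g '' {j | j < i}) → x ∈ Ideal.span (g '' {j | j < i})) →
    hs δ (Ideal.span (Set.range g)) =
      hs δ (⊥ : Ideal (MvPolynomial σ F)) * ∏ i, (1 - PowerSeries.X ^ (ε i)) := by
  intro n
  induction n with
  | zero => intro g ε _ _; simp
  | succ n ih =>
    intro g ε hg hreg
    have hspan : Ideal.span (Set.range g) =
        Ideal.span (Set.range (g ∘ Fin.castSucc)) ⊔ Ideal.span {g (Fin.last n)} := by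
      rw [← Ideal.span_union]
      congr 1
      ext y
      constructor
      · rintro ⟨i, rfl⟩
        rcases Fin.eq_castSucc_or_eq_last i with ⟨j, rfl⟩ | rfl
        · exact Or.inl ⟨j, rfl⟩
        · exact Or.inr rfl
      · rintro (⟨j, rfl⟩ | rfl) <;> exact ⟨_, rfl⟩
    have himg : ∀ i : Fin n, g '' {j | j < i.castSucc} = (g ∘ Fin.castSucc) '' {j | j < i} := by
      intro i
      ext y
      constructor
      · rintro ⟨j, hj, rfl⟩
        rcases Fin.eq_castSucc_or_eq_last j with ⟨j', rfl⟩ | rfl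
        · exact ⟨j', Fin.castSucc_lt_castSucc_iff.1 hj, rfl⟩
        · exact absurd hj (not_lt.2 (Fin.le_last _))
      · rintro ⟨j, hj, rfl⟩
        exact ⟨j.castSucc, Fin.castSucc_lt_castSucc_iff.2 hj, rfl⟩
    have hlast : g '' {j | j < Fin.last n} = Set.range (g ∘ Fin.castSucc) := by
      ext y
      constructor
      · rintro ⟨j, hj, rfl⟩
        rcases Fin.eq_castSucc_or_eq_last j with ⟨j', rfl⟩ | rfl
        · exact ⟨j', rfl⟩
        · exact (lt_irrefl (Fin.last n) hj).elim
      · rintro ⟨j, rfl⟩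
        exact ⟨j.castSucc, Fin.castSucc_lt_last j, rfl⟩
    rw [hspan, hs_step δ hδ (J := Ideal.span (Set.range (g ∘ Fin.castSucc))) (isHomogeneous_span δ (g ∘ Fin.castSucc) (ε ∘ Fin.castSucc) fun i => hg _) (hg (Fin.last n))
      (fun x hx => by rw [← hlast] at hx ⊢; exact hreg _ x hx),
      ih (g ∘ Fin.castSucc) (ε ∘ Fin.castSucc) (fun i => hg _) (fun i x hx => by
        rw [← himg] at hx ⊢; exact hreg i.castSucc x hx),
      Fin.prod_univ_castSucc, mul_assoc]
    rfl

theorem hs_top_ideal (hδ : ∀ i, 0 < δ i) :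
    hs δ (Ideal.span (Set.range (X : σ → MvPolynomial σ F))) = 1 := by
  have hm : ∀ f : MvPolynomial σ F,
      f ∈ Ideal.span (Set.range (X : σ → MvPolynomial σ F)) ↔ constantCoeff f = 0 := by
    intro f
    rw [← Set.image_univ, mem_ideal_span_X_image]
    constructor
    · intro h
      by_contra h0
      obtain ⟨i, -, hi⟩ := h 0 (mem_support_iff.2 h0)
      simp at hi
    · intro h m hm
      obtain ⟨i, hi⟩ : ∃ i, m i ≠ 0 := by
        by_contra! hall
        obtain rfl : m = 0 := Finsupp.ext hall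
        exact mem_support_iff.1 hm h
      exact ⟨i, trivial, hi⟩
  ext u
  simp only [hs, PowerSeries.coeff_mk, PowerSeries.coeff_one]
  split_ifs with hu
  · subst hu
    have hne : (1 : MvPolynomial σ F ⧸ Ideal.span (Set.range (X : σ → MvPolynomial σ F))) ≠ 0 := by
      rw [← map_one (Ideal.Quotient.mk _), Ne, Ideal.Quotient.eq_zero_iff_mem, hm]
      simp
    have : piece δ (Ideal.span (Set.range (X : σ → MvPolynomial σ F))) 0 = Submodule.span F {1} := by
      refine le_antisymm ?_ ?_
      · intro y hy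
        obtain ⟨f, -, rfl⟩ := (mem_piece δ).1 hy
        refine Submodule.mem_span_singleton.2 ⟨constantCoeff f, ?_⟩
        change constantCoeff f • Ideal.Quotient.mkₐ F _ (1 : MvPolynomial σ F) = Ideal.Quotient.mk _ f
        rw [← map_smul, Ideal.Quotient.mkₐ_eq_mk, Ideal.Quotient.eq, hm]
        simp [MvPolynomial.smul_eq_C_mul]
      · rw [Submodule.span_le, Set.singleton_subset_iff]
        exact (mem_piece δ).2 ⟨1, isWeightedHomogeneous_one _ _, map_one _⟩
    rw [this, finrank_span_singleton hne]; rfl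
  · rw [Int.natCast_eq_zero, show piece δ (Ideal.span (Set.range (X : σ → MvPolynomial σ F))) u = ⊥ from ?_,
      finrank_bot]
    rw [eq_bot_iff]
    intro y hy
    obtain ⟨f, hf, rfl⟩ := (mem_piece δ).1 hy
    refine Ideal.Quotient.eq_zero_iff_mem.2 ((hm f).2 ?_)
    rw [constantCoeff_eq]
    exact hf.coeff_eq_zero 0 (by simpa using Ne.symm hu)

theorem hs_bot_mul {k : ℕ} (δ : Fin k → ℕ) (hδ : ∀ i, 0 < δ i) :
    hs δ (⊥ : Ideal (MvPolynomial (Fin k) F)) * ∏ i, (1 - PowerSeries.X ^ (δ i)) = 1 := by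
  rw [← hs_regular δ hδ X δ (fun i => isWeightedHomogeneous_X F δ i) ?_]
  · exact hs_top_ideal δ hδ
  intro i x hx
  rw [mem_ideal_span_X_image] at hx ⊢
  intro m hm
  obtain ⟨j, hj, hne⟩ := hx (m + Finsupp.single i 1) (by
    rw [mem_support_iff, coeff_mul_X]
    exact mem_support_iff.1 hm)
  have hji : j ≠ i := ne_of_lt (show j < i from hj)
  exact ⟨j, hj, by simpa [Finsupp.single_eq_of_ne hji] using hne⟩

theorem reg_of_isWeaklyRegular {n : ℕ} {R : Type*} [CommRing R] {g : Fin n → R}
    (h : RingTheory.Sequence.IsWeaklyRegular R (List.ofFn g)) (i : Fin n) (x : R)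
    (hx : x * g i ∈ Ideal.span (g '' {j | j < i})) : x ∈ Ideal.span (g '' {j | j < i}) := by
  have hlen : i.1 < (List.ofFn g).length := by simpa using i.2
  have h1 := h.regular_mod_prev i.1 hlen
  have hset : (Ideal.ofList (List.take i.1 (List.ofFn g)) • ⊤ : Submodule R R) =
      Ideal.span (g '' {j | j < i}) := by
    rw [Ideal.smul_top_eq_map, Algebra.algebraMap_self, Ideal.map_id, Ideal.ofList]
    simp only [Submodule.restrictScalars_self]
    congr 1
    ext y
    rw [Set.mem_setOf_eq, List.mem_take_iff_getElem]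
    constructor
    · rintro ⟨j, hj, rfl⟩
      have hj' : j < n ∧ j < i.1 := by simp at hj; omega
      exact ⟨⟨j, hj'.1⟩, hj'.2, by simp⟩
    · rintro ⟨j, hj, rfl⟩
      exact ⟨j.1, by simp; exact hj, by simp⟩
  rw [hset] at h1
  rw [List.getElem_ofFn] at h1
  have := h1 (a₁ := Submodule.Quotient.mk x) (a₂ := 0) (by
    simp only [smul_zero]
    rw [← Submodule.Quotient.mk_smul, Submodule.Quotient.mk_eq_zero, smul_eq_mul, mul_comm]
    exact hx)
  exact (Submodule.Quotient.mk_eq_zero _).1 this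

/-- the Hilbert series of a complete intersection -/
theorem hs_complete_intersection {k : ℕ} (δ : Fin k → ℕ) (hδ : ∀ i, 0 < δ i) {n : ℕ}
    (g : Fin n → MvPolynomial (Fin k) F) (ε : Fin n → ℕ)
    (hg : ∀ i, IsWeightedHomogeneous δ (g i) (ε i))
    (hreg : RingTheory.Sequence.IsWeaklyRegular (MvPolynomial (Fin k) F) (List.ofFn g)) :
    hs δ (Ideal.span (Set.range g)) * ∏ i, (1 - PowerSeries.X ^ (δ i)) =
      ∏ i, (1 - PowerSeries.X ^ (ε i)) := by
  rw [hs_regular δ hδ g ε hg (reg_of_isWeaklyRegular hreg), mul_right_comm, hs_bot_mul δ hδ, one_mul]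

end Groth.Agent.GrCI54
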