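import Mathlib
import Groth.Agent.GrCI54.Hilb

/-!
Consequences of the Hilbert series formula for finite-dimensional complete intersections.
-/

set_option autoImplicit false
universe u v

open MvPolynomial

attribute [local instance] MvPolynomial.weightedGradedAlgebra

namespace Groth.Agent.GrCI54

variable {F : Type u} [Field F] {σ : Type v} (δ : σ → ℕ) {J : Ideal (MvPolynomial σ F)}

theorem eq_zero_of_sum_eq_zero (hJ : J.IsHomogeneous (weightedHomogeneousSubmodule F δ))
    (s : Finset ℕ) (y : ℕ → MvPolynomial σ F ⧸ J) (hy : ∀ u ∈ s, y u ∈ piece δ J u)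
    (h : ∑ u ∈ s, y u = 0) : ∀ u ∈ s, y u = 0 := by
  classical
  intro u hu
  choose f hf hfy using fun u (hu : u ∈ s) => (mem_piece δ).1 (hy u hu)
  have hsum : ∑ u ∈ s.attach, f u.1 u.2 ∈ J := by
    rw [← Ideal.Quotient.eq_zero_iff_mem, map_sum, ← h, ← Finset.sum_attach s y]
    exact Finset.sum_congr rfl fun u _ => hfy u.1 u.2
  have := component_mem δ hJ hsum u
  rw [map_sum, Finset.sum_eq_single ⟨u, hu⟩] at this
  · rw [(hf u hu).weightedHomogeneousComponent_same] at this
    rw [← hfy u hu, Ideal.Quotient.eq_zero_iff_mem.2 this]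
  · rintro ⟨w, hw⟩ - hne
    exact (hf w hw).weightedHomogeneousComponent_ne _ (fun e => hne (Subtype.ext e.symm))
  · exact fun h => absurd (Finset.mem_attach _ _) h

theorem finite_support (hJ : J.IsHomogeneous (weightedHomogeneousSubmodule F δ))
    [Module.Finite F (MvPolynomial σ F ⧸ J)] : {u | piece δ J u ≠ ⊥}.Finite := by
  by_contra hinf
  obtain ⟨t, hts, htc⟩ := Set.Infinite.exists_subset_card_eq hinf
    (Module.finrank F (MvPolynomial σ F ⧸ J) + 1)
  choose y hy hy0 using fun u (hu : u ∈ t) => Submodule.exists_mem_ne_zero_of_ne_bot (hts hu)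
  have hli : LinearIndependent F (fun u : t => y u.1 u.2) := by
    rw [Fintype.linearIndependent_iff]
    intro c hc u
    classical
    let z : ℕ → MvPolynomial σ F ⧸ J := fun w => if hw : w ∈ t then c ⟨w, hw⟩ • y w hw else 0
    have hz : ∀ w ∈ t, z w ∈ piece δ J w := fun w hw => by
      simp only [z, dif_pos hw]
      exact Submodule.smul_mem _ _ (hy w hw)
    have h0 : ∑ w ∈ t, z w = 0 := by
      rw [← Finset.sum_attach t z, ← hc]
      exact Finset.sum_congr rfl fun w _ => dif_pos w.2
    have := eq_zero_of_sum_eq_zero δ hJ t z hz h0 u.1 u.2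
    simp only [z, dif_pos u.2] at this
    exact (smul_eq_zero.1 this).resolve_right (hy0 u.1 u.2)
  have := hli.fintype_card_le_finrank
  simp only [Fintype.card_coe, htc] at this
  omega

theorem finrank_eq_sum [Finite σ] (hδ : ∀ i, 0 < δ i)
    (hJ : J.IsHomogeneous (weightedHomogeneousSubmodule F δ))
    (s : Finset ℕ) (hs' : ∀ u, piece δ J u ≠ ⊥ → u ∈ s) :
    Module.finrank F (MvPolynomial σ F ⧸ J) = ∑ u ∈ s, Module.finrank F (piece δ J u) := by
  classical
  have := fun u : s => finite_piece δ hδ J u.1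
  let Φ : (Π u : s, piece δ J u.1) →ₗ[F] MvPolynomial σ F ⧸ J :=
    ∑ u : s, (piece δ J u.1).subtype ∘ₗ LinearMap.proj u
  have hΦ : ∀ f, Φ f = ∑ u : s, (f u : MvPolynomial σ F ⧸ J) := fun f => by
    simp [Φ, LinearMap.sum_apply]
  have hinj : Function.Injective Φ := by
    rw [injective_iff_map_eq_zero]
    intro f hf
    let z : ℕ → MvPolynomial σ F ⧸ J := fun w => if hw : w ∈ s then (f ⟨w, hw⟩ : _) else 0
    have h0 : ∑ w ∈ s, z w = 0 := by
      rw [← Finset.sum_attach s z, ← hf, hΦ]
      exact Finset.sum_congr rfl fun w _ => dif_pos w.2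
    funext u
    refine Subtype.ext ?_
    have := eq_zero_of_sum_eq_zero δ hJ s z (fun w hw => by simp [z, hw]) h0 u.1 u.2
    simpa [z, u.2] using this
  have hsurj : Function.Surjective Φ := by
    intro y
    obtain ⟨f, rfl⟩ := Ideal.Quotient.mk_surjective y
    refine ⟨fun u => ⟨Ideal.Quotient.mk J (weightedHomogeneousComponent δ u.1 f),
      (mem_piece δ).2 ⟨_, weightedHomogeneousComponent_isWeightedHomogeneous _ _, rfl⟩⟩, ?_⟩
    rw [hΦ]
    conv_rhs => rw [← sum_weightedHomogeneousComponent δ f]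
    rw [finsum_eq_sum_of_support_subset _ (s := s ∪ (weightedHomogeneousComponent_finsupp (w := δ) f).toFinset)
      (fun u hu => Finset.mem_coe.2 (Finset.mem_union_right _ (Set.Finite.mem_toFinset _ |>.2 hu))),
      map_sum, Finset.sum_coe_sort s (fun u => Ideal.Quotient.mk J (weightedHomogeneousComponent δ u f))]
    refine Finset.sum_subset Finset.subset_union_left fun u _ hu => ?_
    by_contra hne
    refine hu (hs' u fun hbot => hne ?_)
    have : Ideal.Quotient.mk J (weightedHomogeneousComponent δ u f) ∈ piece δ J u :=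
      (mem_piece δ).2 ⟨_, weightedHomogeneousComponent_isWeightedHomogeneous _ _, rfl⟩
    simpa [hbot] using this
  rw [← (LinearEquiv.ofBijective Φ ⟨hinj, hsurj⟩).finrank_eq, Module.finrank_pi_fintype,
    Finset.sum_coe_sort s (fun u => Module.finrank F (piece δ J u))]

theorem polynomial_facts {k : ℕ} (δ ε : Fin k → ℕ) (hδ : ∀ i, 0 < δ i) (hε : ∀ i, 0 < ε i)
    (P : Polynomial ℤ)
    (h : P * ∏ i, (1 - (Polynomial.X : Polynomial ℤ) ^ δ i) = ∏ i, (1 - Polynomial.X ^ ε i)) :
    P ≠ 0 ∧ P.natDegree = (∑ i, ε i) - ∑ i, δ i ∧ P.eval 1 * ∏ i, (δ i : ℤ) = ∏ i, (ε i : ℤ) := by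
  have hne : ∀ e : ℕ, 0 < e → (1 - Polynomial.X ^ e : Polynomial ℤ) ≠ 0 := fun e he h0 => by
    have := congrArg (Polynomial.eval 0) h0
    simp [zero_pow he.ne'] at this
  have hdeg : ∀ e : ℕ, (1 - Polynomial.X ^ e : Polynomial ℤ).natDegree = e := fun e => by
    rw [← Polynomial.natDegree_neg, neg_sub, ← map_one (Polynomial.C : ℤ →+* Polynomial ℤ), Polynomial.natDegree_X_pow_sub_C]
  have hε0 : ∏ i, (1 - (Polynomial.X : Polynomial ℤ) ^ ε i) ≠ 0 :=
    Finset.prod_ne_zero_iff.2 fun i _ => hne _ (hε i)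
  have hP : P ≠ 0 := fun h0 => hε0 (by rw [← h, h0, zero_mul])
  refine ⟨hP, ?_, ?_⟩
  · have := congrArg Polynomial.natDegree h
    rw [Polynomial.natDegree_mul hP (Finset.prod_ne_zero_iff.2 fun i _ => hne _ (hδ i)),
      Polynomial.natDegree_prod _ _ (fun i _ => hne _ (hδ i)), Polynomial.natDegree_prod _ _ (fun i _ => hne _ (hε i))] at this
    simp only [hdeg] at this
    omega
  · have hgeom : ∀ e : Fin k → ℕ, ∏ i, (1 - (Polynomial.X : Polynomial ℤ) ^ e i) =
        (∏ i, ∑ j ∈ Finset.range (e i), Polynomial.X ^ j) * (1 - Polynomial.X) ^ k := fun e => by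
      rw [← Fin.prod_const, ← Finset.prod_mul_distrib]
      exact Finset.prod_congr rfl fun i _ => (geom_sum_mul_neg Polynomial.X (e i)).symm
    rw [hgeom, hgeom, ← mul_assoc] at h
    have h1 := congrArg (Polynomial.eval 1)
      (mul_right_cancel₀ (pow_ne_zero k (show (1 - Polynomial.X : Polynomial ℤ) ≠ 0 by simpa using hne 1 one_pos)) h)
    simpa [Polynomial.eval_prod, Polynomial.eval_finsetSum] using h1

/-- everything about a finite-dimensional complete intersection -/
theorem complete_intersection_facts {k : ℕ} (δ : Fin k → ℕ) (hδ : ∀ i, 0 < δ i)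
    (g : Fin k → MvPolynomial (Fin k) F) (ε : Fin k → ℕ) (hε : ∀ i, 0 < ε i)
    (hg : ∀ i, IsWeightedHomogeneous δ (g i) (ε i))
    (hreg : RingTheory.Sequence.IsWeaklyRegular (MvPolynomial (Fin k) F) (List.ofFn g))
    (hfin : Module.Finite F (MvPolynomial (Fin k) F ⧸ Ideal.span (Set.range g))) :
    Module.finrank F (MvPolynomial (Fin k) F ⧸ Ideal.span (Set.range g)) * ∏ i, δ i = ∏ i, ε i ∧
    piece δ (Ideal.span (Set.range g)) (Finset.univ.sum ε - Finset.univ.sum δ) ≠ ⊥ ∧
    ∀ u, Finset.univ.sum ε - Finset.univ.sum δ < u → piece δ (Ideal.span (Set.range g)) u = ⊥ := by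
  classical
  set J := Ideal.span (Set.range g) with hJdef
  have hJ := isHomogeneous_span δ g ε hg
  have hsupp := finite_support δ hJ
  set s := hsupp.toFinset with hs'
  let P : Polynomial ℤ := ∑ u ∈ s, Polynomial.monomial u (Module.finrank F (piece δ J u) : ℤ)
  have hcoeff : ∀ u, P.coeff u = Module.finrank F (piece δ J u) := fun u => by
    simp only [P, Polynomial.finsetSum_coeff, Polynomial.coeff_monomial, Finset.sum_ite_eq']
    split_ifs with hu
    · rfl
    · have hb : piece δ J u = ⊥ := by simpa [s] using hu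
      rw [hb, finrank_bot]; rfl
  have hcoe : (P : PowerSeries ℤ) = hs δ J := by
    ext u
    rw [Polynomial.coeff_coe, hcoeff]
    simp [hs]
  have hP : P * ∏ i, (1 - (Polynomial.X : Polynomial ℤ) ^ δ i) = ∏ i, (1 - Polynomial.X ^ ε i) := by
    apply Polynomial.coe_injective
    rw [Polynomial.coe_mul, hcoe]
    simp only [← Polynomial.coeToPowerSeries.ringHom_apply, map_prod, map_sub, map_one, map_pow]
    simp only [Polynomial.coeToPowerSeries.ringHom_apply, Polynomial.coe_X]
    exact hs_complete_intersection δ hδ g ε hg hreg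
  obtain ⟨hP0, hdeg, heval⟩ := polynomial_facts δ ε hδ hε P hP
  refine ⟨?_, ?_, fun u hu => ?_⟩
  · rw [finrank_eq_sum δ hδ hJ s (fun u hu => by simpa [s] using hu)]
    simp only [P, Polynomial.eval_finsetSum, Polynomial.eval_monomial, one_pow, mul_one] at heval
    exact_mod_cast heval
  · intro hbot
    have := Polynomial.leadingCoeff_ne_zero.2 hP0
    rw [Polynomial.leadingCoeff, hdeg, hcoeff, hbot, finrank_bot] at this
    exact this rfl
  · have := finite_piece δ hδ J u
    rw [← Submodule.finrank_eq_zero (R := F), ← Int.natCast_eq_zero, ← hcoeff]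
    exact Polynomial.coeff_eq_zero_of_natDegree_lt (hdeg.trans_lt hu)

end Groth.Agent.GrCI54
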