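import Mathlib
import Groth.Agent.GrCI54.Top
import Groth.Agent.LC16.SopRegular

/-!
Weighted homogeneous systems of parameters of a polynomial ring are regular sequences.
-/

set_option autoImplicit false
universe u v

open MvPolynomial

attribute [local instance] MvPolynomial.weightedGradedAlgebra

namespace Groth.Agent.GrCI54

theorem ofList_take_ofFn {R : Type*} [CommRing R] {n : ℕ} (g : Fin n → R) (i : ℕ) :
    (Ideal.ofList (List.take i (List.ofFn g)) • ⊤ : Submodule R R) =
      Ideal.span (g '' {j | j.1 < i}) := by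
  rw [Ideal.smul_top_eq_map, Algebra.algebraMap_self, Ideal.map_id, Ideal.ofList]
  simp only [Submodule.restrictScalars_self]
  congr 1
  ext y
  rw [Set.mem_ofPred_eq, List.mem_take_iff_getElem]
  constructor
  · rintro ⟨j, hj, rfl⟩
    have hj' : j < n ∧ j < i := by simp at hj; omega
    exact ⟨⟨j, hj'.1⟩, hj'.2, by simp⟩
  · rintro ⟨j, hj, rfl⟩
    exact ⟨j.1, by simp; exact hj, by simp⟩

theorem isWeaklyRegular_of_cancel {R : Type*} [CommRing R] {n : ℕ} {g : Fin n → R}
    (h : ∀ (i : Fin n) x, x * g i ∈ Ideal.span (g '' {j | j < i}) → x ∈ Ideal.span (g '' {j | j < i})) :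
    RingTheory.Sequence.IsWeaklyRegular R (List.ofFn g) := by
  refine ⟨fun i hi => ?_⟩
  have hn : i < n := by simpa using hi
  rw [List.getElem_ofFn, ofList_take_ofFn]
  refine IsSMulRegular.of_right_eq_zero_of_smul fun y hy => ?_
  obtain ⟨x, rfl⟩ := Submodule.Quotient.mk_surjective _ y
  rw [← Submodule.Quotient.mk_smul, Submodule.Quotient.mk_eq_zero, smul_eq_mul, mul_comm] at hy
  exact (Submodule.Quotient.mk_eq_zero _).2 (h ⟨i, hn⟩ x hy)

variable {F : Type u} [Field F] {k : ℕ} (δ : Fin k → ℕ)

theorem isWeaklyRegular_X :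
    RingTheory.Sequence.IsWeaklyRegular (MvPolynomial (Fin k) F) (List.ofFn (X : Fin k → MvPolynomial (Fin k) F)) := by
  refine isWeaklyRegular_of_cancel fun i x hx => ?_
  rw [mem_ideal_span_X_image] at hx ⊢
  intro m hm
  obtain ⟨j, hj, hne⟩ := hx (m + Finsupp.single i 1) (by
    rw [mem_support_iff, coeff_mul_X]
    exact mem_support_iff.1 hm)
  have hji : j ≠ i := ne_of_lt (show j < i from hj)
  exact ⟨j, hj, by simpa [Finsupp.single_eq_of_ne hji] using hne⟩

/-- multiplication by a polynomial with nonzero constant term reflects a homogeneous ideal -/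
theorem mem_of_mul_mem {σ : Type v} (δ : σ → ℕ) (hδ : ∀ i, 0 < δ i) {J : Ideal (MvPolynomial σ F)}
    (hJ : J.IsHomogeneous (weightedHomogeneousSubmodule F δ)) {s x : MvPolynomial σ F}
    (hs : constantCoeff s ≠ 0) (h : s * x ∈ J) : x ∈ J := by
  classical
  refine (MvPolynomial.mem_iff_weightedHomogeneousComponent_mem F δ hJ x).2 fun u => ?_
  induction u using Nat.strong_induction_on with
  | _ u ih =>
    have hrest : ∀ d ∈ s.support, d ≠ 0 →
        weightedHomogeneousComponent δ u (x * monomial d (coeff d s)) ∈ J := by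
      intro d _ hd
      rw [component_mul δ (isWeightedHomogeneous_monomial δ d _ rfl)]
      have hpos : 0 < Finsupp.weight δ d := by
        obtain ⟨i, hi⟩ : ∃ i, d i ≠ 0 := by
          by_contra! hall
          exact hd (Finsupp.ext hall)
        have := Finsupp.le_weight δ (hδ i).ne' d
        omega
      split_ifs with hle
      · exact J.mul_mem_right _ (ih _ (by omega))
      · exact zero_mem _
    have h0 : (0 : σ →₀ ℕ) ∈ s.support := mem_support_iff.2 hs
    have hsx := component_mem δ hJ h u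
    rw [mul_comm] at hsx
    nth_rewrite 1 [s.as_sum] at hsx
    rw [Finset.mul_sum, map_sum, ← Finset.add_sum_erase _ _ h0] at hsx
    have hmem : weightedHomogeneousComponent δ u (x * monomial 0 (coeff 0 s)) ∈ J :=
      (J.add_mem_iff_left (sum_mem fun d hd => hrest d (Finset.mem_of_mem_erase hd) (Finset.ne_of_mem_erase hd))).1 hsx
    rw [monomial_zero', mul_comm, weightedHomogeneousComponent_C_mul] at hmem
    have := J.mul_mem_left (C (coeff 0 s)⁻¹) hmem
    rwa [← mul_assoc, ← map_mul, inv_mul_cancel₀ (by exact hs), map_one, one_mul] at this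

/-- a weighted homogeneous system of parameters is a regular sequence -/
theorem isWeaklyRegular_of_finite (hδ : ∀ i, 0 < δ i) (g : Fin k → MvPolynomial (Fin k) F)
    (ε : Fin k → ℕ) (hε : ∀ i, 0 < ε i) (hg : ∀ i, IsWeightedHomogeneous δ (g i) (ε i))
    (hfin : Module.Finite F (MvPolynomial (Fin k) F ⧸ Ideal.span (Set.range g))) :
    RingTheory.Sequence.IsWeaklyRegular (MvPolynomial (Fin k) F) (List.ofFn g) := by
  classical
  let m : Ideal (MvPolynomial (Fin k) F) := RingHom.ker (constantCoeff (R := F) (σ := Fin k))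
  have : m.IsPrime := RingHom.ker_isPrime _
  have hmX : m ≤ Ideal.span (Set.range (X : Fin k → (MvPolynomial (Fin k) F))) := by
    intro f hf
    rw [← Set.image_univ, mem_ideal_span_X_image]
    intro d hd
    obtain ⟨i, hi⟩ : ∃ i, d i ≠ 0 := by
      by_contra! hall
      obtain rfl : d = 0 := Finsupp.ext hall
      exact mem_support_iff.1 hd hf
    exact ⟨i, trivial, hi⟩
  let L := Localization.AtPrime m
  have hgm : ∀ i, g i ∈ m := fun i => by
    rw [RingHom.mem_ker, constantCoeff_eq]
    exact (hg i).coeff_eq_zero 0 (by simpa using (hε i).ne)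
  have hrad : ∀ i, (X i : (MvPolynomial (Fin k) F)) ∈ (Ideal.span (Set.range g)).radical := by
    intro i
    obtain ⟨N, hN⟩ := (finite_support δ (isHomogeneous_span δ g ε hg)).bddAbove
    refine ⟨N + 1, Ideal.Quotient.eq_zero_iff_mem.1 ?_⟩
    by_contra hne
    have hw : IsWeightedHomogeneous δ ((X i : (MvPolynomial (Fin k) F)) ^ (N + 1)) ((N + 1) • δ i) :=
      (isWeightedHomogeneous_X F δ i).pow _
    have : (N + 1) • δ i ∈ {u | piece δ (Ideal.span (Set.range g)) u ≠ ⊥} := by
      intro hbot
      have hmem := (mem_piece δ).2 ⟨_, hw, (rfl : Ideal.Quotient.mk (Ideal.span (Set.range g)) _ = _)⟩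
      rw [hbot] at hmem
      exact hne ((Submodule.mem_bot F).1 hmem)
    have h1 := hN this
    have := hδ i
    rw [smul_eq_mul] at h1
    nlinarith
  have hloc : ∀ {f : (MvPolynomial (Fin k) F)}, f ∈ m → algebraMap (MvPolynomial (Fin k) F) L f ∈ IsLocalRing.maximalIdeal L := fun {f} hf => by
    exact (IsLocalization.AtPrime.to_map_mem_maximal_iff L m f).2 hf
  have hrsm : ∀ r ∈ (List.ofFn (X : Fin k → (MvPolynomial (Fin k) F))).map (algebraMap (MvPolynomial (Fin k) F) L), r ∈ IsLocalRing.maximalIdeal L := by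
    intro r hr
    rw [List.map_ofFn, List.mem_ofFn'] at hr
    obtain ⟨i, rfl⟩ := hr
    exact hloc (MvPolynomial.constantCoeff_X (R := F) i)
  have hbm : ∀ r ∈ (List.ofFn g).map (algebraMap (MvPolynomial (Fin k) F) L), r ∈ IsLocalRing.maximalIdeal L := by
    intro r hr
    rw [List.map_ofFn, List.mem_ofFn'] at hr
    obtain ⟨i, rfl⟩ := hr
    exact hloc (hgm i)
  have : Module.Flat (MvPolynomial (Fin k) F) L := IsLocalization.flat L m.primeCompl
  have hrs : RingTheory.Sequence.IsRegular L ((List.ofFn (X : Fin k → (MvPolynomial (Fin k) F))).map (algebraMap (MvPolynomial (Fin k) F) L)) :=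
    LC16.isRegular_of_weakly (isWeaklyRegular_X.of_flat) hrsm
  have hW : RingTheory.Sequence.IsWeaklyRegular L ((List.ofFn g).map (algebraMap (MvPolynomial (Fin k) F) L)) := by
    refine LC16.isWeaklyRegular_of_le_radical _ _ hrs hrsm (by simp) hbm ?_
    refine le_trans ?_ (Ideal.radical_mono le_sup_right)
    rw [← IsLocalization.AtPrime.map_eq_maximalIdeal m L, Ideal.map_le_iff_le_comap]
    refine hmX.trans (Ideal.span_le.2 ?_)
    rintro _ ⟨i, rfl⟩
    obtain ⟨N, hN⟩ := hrad i
    refine ⟨N, ?_⟩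
    rw [← map_pow, ← Ideal.map_ofList]
    refine Ideal.mem_map_of_mem _ ?_
    have : Ideal.ofList (List.ofFn g) = Ideal.span (Set.range g) := by
      refine congrArg Ideal.span (Set.ext fun y => ?_)
      simp [List.mem_ofFn']
    rwa [this]
  rw [List.map_ofFn] at hW
  refine isWeaklyRegular_of_cancel fun i x hx => ?_
  have hhom : (Ideal.span (g '' {j | j < i})).IsHomogeneous (weightedHomogeneousSubmodule F δ) :=
    Ideal.homogeneous_span _ _ (by rintro _ ⟨j, -, rfl⟩; exact ⟨ε j, hg j⟩)
  have himg : (algebraMap (MvPolynomial (Fin k) F) L ∘ g) '' {j | j < i} = algebraMap (MvPolynomial (Fin k) F) L '' (g '' {j | j < i}) :=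
    Set.image_comp _ _ _
  have h1 := reg_of_isWeaklyRegular hW i (algebraMap (MvPolynomial (Fin k) F) L x) (by
    rw [himg, ← Ideal.map_span, Function.comp_apply, ← map_mul]
    exact Ideal.mem_map_of_mem _ hx)
  rw [himg, ← Ideal.map_span, IsLocalization.algebraMap_mem_map_algebraMap_iff m.primeCompl] at h1
  obtain ⟨s, hs, hsx⟩ := h1
  exact mem_of_mul_mem δ hδ hhom hs hsx

end Groth.Agent.GrCI54
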